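import Mathlib
import Groth.Agent.S6284
import Groth.Agent.AdicBasics.Dimension

/-!
# Completion along an ideal in the Jacobson radical: dimension of modules
-/

set_option autoImplicit false

universe u

open scoped TensorProduct

namespace Groth.Agent.ComplSemi

/-- A flat Noetherian extension in which maximal ideals correspond by extension keeps the dimension. -/
theorem ringKrullDim_eq_of_flat {A B : Type u} [CommRing A] [CommRing B] [Algebra A B]
    [IsNoetherianRing A] [IsNoetherianRing B] [Module.Flat A B]
    (hmax : ∀ M : Ideal B, M.IsMaximal → (M.comap (algebraMap A B)).IsMaximal ∧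
      M = (M.comap (algebraMap A B)).map (algebraMap A B))
    (hlift : ∀ m : Ideal A, m.IsMaximal → m.map (algebraMap A B) ≠ ⊤) :
    ringKrullDim B = ringKrullDim A := by
  have hh : ∀ M : Ideal B, M.IsMaximal → M.height = (M.comap (algebraMap A B)).height := by
    intro M hM
    obtain ⟨hm, heq⟩ := hmax M hM
    haveI : M.LiesOver (M.comap (algebraMap A B)) := ⟨rfl⟩
    rw [Ideal.height_eq_height_add_of_liesOver_of_hasGoingDown (M.comap (algebraMap A B)) M]
    have h0 : (M.map (Ideal.Quotient.mk ((M.comap (algebraMap A B)).map (algebraMap A B)))).height = 0 := by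
      rw [← heq, Ideal.map_quotient_self]
      letI := Ideal.Quotient.field M
      exact Ideal.height_bot
    rw [h0, add_zero]
  apply le_antisymm
  · refine (ringKrullDim_le_iff_isMaximal_height_le _).2 fun M hM => ?_
    rw [hh M hM]
    exact Ideal.height_le_ringKrullDim_of_ne_top (hmax M hM).1.ne_top
  · refine (ringKrullDim_le_iff_isMaximal_height_le _).2 fun m hm => ?_
    obtain ⟨M, hM, hle⟩ := Ideal.exists_le_maximal _ (hlift m hm)
    have : m = M.comap (algebraMap A B) :=
      hm.eq_of_le (hmax M hM).1.ne_top (Ideal.map_le_iff_le_comap.1 hle)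
    rw [this, ← hh M hM]
    exact Ideal.height_le_ringKrullDim_of_ne_top hM.ne_top

variable {A : Type u} [CommRing A] [IsNoetherianRing A] (J : Ideal A)

theorem exists_approx (y : AdicCompletion J A) : ∃ a : A,
    y - algebraMap A (AdicCompletion J A) a ∈ J.map (algebraMap A (AdicCompletion J A)) := by
  obtain ⟨a, ha⟩ := Submodule.Quotient.mk_surjective _ (y.val 1)
  refine ⟨a, ?_⟩
  rw [← pow_one (J.map _), ← Ideal.map_pow, ← Submodule.restrictScalars_mem A, ← Ideal.smul_top_eq_map,
    AdicCompletion.pow_smul_top_eq_ker_eval (IsNoetherian.noetherian J), LinearMap.mem_ker, map_sub,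
    sub_eq_zero, AdicCompletion.eval_apply, ← ha, AdicCompletion.eval_apply, AdicCompletion.algebraMap_apply]
  rfl

/-- The maximal ideals of a completion. -/
theorem maximal_completion (M : Ideal (AdicCompletion J A)) (hM : M.IsMaximal) :
    (M.comap (algebraMap A (AdicCompletion J A))).IsMaximal ∧
      J ≤ M.comap (algebraMap A (AdicCompletion J A)) ∧
      M = (M.comap (algebraMap A (AdicCompletion J A))).map (algebraMap A (AdicCompletion J A)) := by
  haveI : IsAdicComplete J (AdicCompletion J A) := AdicCompletion.isAdicComplete (IsNoetherian.noetherian J)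
  haveI : IsAdicComplete (J.map (algebraMap A (AdicCompletion J A))) (AdicCompletion J A) :=
    (IsAdicComplete.map_algebraMap_iff J _).2 inferInstance
  have hJM : J.map (algebraMap A (AdicCompletion J A)) ≤ M :=
    (IsAdicComplete.le_jacobson_bot _).trans (sInf_le ⟨bot_le, hM⟩)
  have hsurj : Function.Surjective ((Ideal.Quotient.mk M).comp (algebraMap A (AdicCompletion J A))) := fun z => by
    obtain ⟨y, rfl⟩ := Ideal.Quotient.mk_surjective z
    obtain ⟨a, ha⟩ := exists_approx J y
    exact ⟨a, ((Ideal.Quotient.eq).2 (hJM ha)).symm⟩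
  have hker : RingHom.ker ((Ideal.Quotient.mk M).comp (algebraMap A (AdicCompletion J A))) =
      M.comap (algebraMap A (AdicCompletion J A)) := by
    ext a; rw [RingHom.mem_ker, RingHom.comp_apply, Ideal.Quotient.eq_zero_iff_mem]; rfl
  refine ⟨?_, Ideal.map_le_iff_le_comap.1 hJM, le_antisymm (fun y hy => ?_) Ideal.map_comap_le⟩
  · rw [← hker]
    letI := Ideal.Quotient.field M
    exact RingHom.ker_isMaximal_of_surjective _ hsurj
  · obtain ⟨a, ha⟩ := exists_approx J y
    have h1 : algebraMap A (AdicCompletion J A) a ∈ M := by simpa using sub_mem hy (hJM ha)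
    have := add_mem (Ideal.map_mono (Ideal.map_le_iff_le_comap.1 hJM) ha) (Ideal.mem_map_of_mem _ h1)
    rwa [sub_add_cancel] at this

theorem map_ne_top (hJ : J ≤ Ring.jacobson A) (m : Ideal A) [hm : m.IsMaximal] :
    m.map (algebraMap A (AdicCompletion J A)) ≠ ⊤ := by
  intro h
  have hJm : J ≤ m := hJ.trans (Ring.jacobson_le_of_isMaximal m)
  have hle : J ^ 1 ≤ m := by rw [pow_one]; exact hJm
  have h1 : (m.map (algebraMap A (AdicCompletion J A))) ≤
      RingHom.ker ((Ideal.Quotient.factor hle).comp (AdicCompletion.evalₐ J 1).toRingHom) := by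
    rw [Ideal.map_le_iff_le_comap]
    intro a ha
    simp only [Ideal.mem_comap, RingHom.mem_ker]
    simp
    exact Ideal.Quotient.eq_zero_iff_mem.2 ha
  rw [h] at h1
  have := h1 (Submodule.mem_top (x := 1))
  rw [RingHom.mem_ker, map_one] at this
  exact one_ne_zero this

/-- The dimension of a finite module is that of its completion. -/
theorem supportDim_eq (hJ : J ≤ Ring.jacobson A) (M : Type u) [AddCommGroup M] [Module A M] [Module.Finite A M] :
    Module.supportDim (AdicCompletion J A) (AdicCompletion J M) = Module.supportDim A M := by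
  haveI : IsNoetherianRing (AdicCompletion J A) := ResExt.isNoetherianRing_adicCompletion J (IsNoetherian.noetherian _)
  set B := AdicCompletion J A
  rw [← Module.supportDim_eq_of_equiv (AdicCompletion.ofTensorProductEquivOfFiniteNoetherian J M)]
  set I := Module.annihilator A M
  have hs : Module.support B (B ⊗[A] M) = PrimeSpectrum.zeroLocus (I.map (algebraMap A B) : Set B) := by
    rw [S6284.result, Module.support_eq_zeroLocus, PrimeSpectrum.preimage_comap_zeroLocus, Ideal.map,
      PrimeSpectrum.zeroLocus_span]
  rw [Module.supportDim, Module.supportDim, hs, Module.support_eq_zeroLocus, ← ringKrullDim_quotient,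
    ← ringKrullDim_quotient]
  haveI : Module.Flat (A ⧸ I) (B ⧸ I.map (algebraMap A B)) :=
    Module.Flat.of_linearEquiv
      ((Algebra.TensorProduct.quotIdealMapEquivTensorQuot B I).toLinearEquiv.restrictScalars A |>.trans
        (TensorProduct.comm A B (A ⧸ I)) |> fun e => LinearEquiv.extendScalarsOfSurjective Ideal.Quotient.mk_surjective e)
  refine ringKrullDim_eq_of_flat (fun P hP => ?_) (fun n hn => ?_)
  · haveI := Ideal.comap_isMaximal_of_surjective (Ideal.Quotient.mk (I.map (algebraMap A B))) Ideal.Quotient.mk_surjective (K := P)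
    obtain ⟨h1, -, h3⟩ := maximal_completion J _ this
    set M' := P.comap (Ideal.Quotient.mk (I.map (algebraMap A B)))
    have hc : (P.comap (algebraMap (A ⧸ I) (B ⧸ I.map (algebraMap A B)))).comap (Ideal.Quotient.mk I) =
        M'.comap (algebraMap A B) := by
      rw [Ideal.comap_comap, Ideal.comap_comap]; rfl
    have hq : P.comap (algebraMap (A ⧸ I) (B ⧸ I.map (algebraMap A B))) =
        (M'.comap (algebraMap A B)).map (Ideal.Quotient.mk I) := by
      rw [← hc, Ideal.map_comap_of_surjective _ Ideal.Quotient.mk_surjective]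
    refine ⟨?_, ?_⟩
    · rw [hq]
      refine (Ideal.map_eq_top_or_isMaximal_of_surjective _ Ideal.Quotient.mk_surjective h1).resolve_left ?_
      rw [← hq]
      exact Ideal.comap_ne_top _ hP.ne_top
    · conv_lhs => rw [← Ideal.map_comap_of_surjective _ Ideal.Quotient.mk_surjective P]
      rw [hq, Ideal.map_map, show P.comap _ = _ from h3, Ideal.map_map]
      rfl
  · haveI := Ideal.comap_isMaximal_of_surjective (Ideal.Quotient.mk I) Ideal.Quotient.mk_surjective (K := n)
    obtain ⟨Q, hQ, hle⟩ := Ideal.exists_le_maximal _ (map_ne_top J hJ (n.comap (Ideal.Quotient.mk I)))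
    have hIQ : I.map (algebraMap A B) ≤ Q :=
      (Ideal.map_mono fun a ha => by simp [Ideal.Quotient.eq_zero_iff_mem.2 ha]).trans hle
    intro htop
    refine hQ.ne_top ?_
    have h1 : n.map (algebraMap (A ⧸ I) (B ⧸ I.map (algebraMap A B))) ≤ Q.map (Ideal.Quotient.mk _) := by
      rw [← Ideal.map_comap_of_surjective _ Ideal.Quotient.mk_surjective n, Ideal.map_map]
      refine le_trans (le_of_eq ?_) (Ideal.map_mono hle)
      rw [Ideal.map_map]
      rfl
    rw [htop] at h1
    have := congrArg (Ideal.comap (Ideal.Quotient.mk (I.map (algebraMap A B)))) (top_le_iff.1 h1)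
    rw [Ideal.comap_map_of_surjective _ Ideal.Quotient.mk_surjective, ← RingHom.ker_eq_comap_bot, Ideal.mk_ker,
      sup_of_le_left hIQ, Ideal.comap_top] at this
    exact this

end Groth.Agent.ComplSemi
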